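import Groth.Agent.Lib.Twist.QCoh
import Groth.Agent.Lib.EGA2.ProjMap
import Mathlib.AlgebraicGeometry.Morphisms.ClosedImmersion

/-!
A closed subscheme of `Proj` is the `Proj` of a graded quotient, when the irrelevant ideal is
generated by finitely many elements of degree one.
-/

set_option autoImplicit false

universe u

open CategoryTheory CategoryTheory.Limits AlgebraicGeometry HomogeneousLocalization

namespace Groth.Agent.ProjClosed

variable {R A : Type u} [CommRing R] [CommRing A] [Algebra R A] {𝒜 : ℕ → Submodule R A} [GradedAlgebra 𝒜]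

lemma mem_smul_one {f : A} {d : ℕ} (hf : f ∈ 𝒜 d) : f ∈ 𝒜 (d • 1) := by simpa using hf

lemma away_mk_mul {d : ℕ} {f : A} (hf : f ∈ 𝒜 d) {m n : ℕ} {a b : A}
    (ha : a ∈ 𝒜 (m • d)) (hb : b ∈ 𝒜 (n • d)) (hab : a * b ∈ 𝒜 ((m + n) • d)) :
    Away.mk 𝒜 hf m a ha * Away.mk 𝒜 hf n b hb = Away.mk 𝒜 hf (m + n) (a * b) hab := by
  apply val_injective
  rw [val_mul, Away.val_mk, Away.val_mk, Away.val_mk, Localization.mk_mul]
  congr 1
  exact Subtype.ext (pow_add f m n).symm

lemma away_mk_add {d : ℕ} {f : A} (hf : f ∈ 𝒜 d) {m : ℕ} {a b : A}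
    (ha : a ∈ 𝒜 (m • d)) (hb : b ∈ 𝒜 (m • d)) :
    Away.mk 𝒜 hf m a ha + Away.mk 𝒜 hf m b hb = Away.mk 𝒜 hf m (a + b) (add_mem ha hb) := by
  apply val_injective
  rw [val_add, Away.val_mk, Away.val_mk, Away.val_mk, Localization.add_mk_self]

variable {Z : Scheme.{u}} (i : Z ⟶ Proj 𝒜)

/-- The pullback of the functions on `D₊(g)`. -/
noncomputable def secMap (g : A) : Away 𝒜 g →+* Γ(Z, i ⁻¹ᵁ Proj.basicOpen 𝒜 g) :=
  (Proj.awayToSection 𝒜 g ≫ i.app (Proj.basicOpen 𝒜 g)).hom

/-- The pullback of `a / g ^ n`. -/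
noncomputable def secVal {g : A} (hg : g ∈ 𝒜 1) {n : ℕ} (a : A) (ha : a ∈ 𝒜 n) :
    Γ(Z, i ⁻¹ᵁ Proj.basicOpen 𝒜 g) :=
  secMap i g (Away.mk 𝒜 hg n a (mem_smul_one ha))

lemma secVal_congr {g : A} (hg : g ∈ 𝒜 1) {m n : ℕ} (e : m = n) {a b : A} (e' : a = b)
    (ha : a ∈ 𝒜 m) (hb : b ∈ 𝒜 n) : secVal i hg a ha = secVal i hg b hb := by
  subst e e'; rfl

lemma secVal_mul {g : A} (hg : g ∈ 𝒜 1) {m n : ℕ} {a b : A} (ha : a ∈ 𝒜 m) (hb : b ∈ 𝒜 n) :
    secVal i hg (a * b) (SetLike.mul_mem_graded ha hb) = secVal i hg a ha * secVal i hg b hb := by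
  rw [secVal, secVal, secVal, ← map_mul,
    away_mk_mul hg _ _ (mem_smul_one (SetLike.mul_mem_graded ha hb))]

lemma secVal_add {g : A} (hg : g ∈ 𝒜 1) {n : ℕ} {a b : A} (ha : a ∈ 𝒜 n) (hb : b ∈ 𝒜 n) :
    secVal i hg (a + b) (add_mem ha hb) = secVal i hg a ha + secVal i hg b hb := by
  rw [secVal, secVal, secVal, ← map_add, away_mk_add]

lemma secVal_zero {g : A} (hg : g ∈ 𝒜 1) (n : ℕ) : secVal i hg (0 : A) (zero_mem (𝒜 n)) = 0 := by
  have := secVal_add i hg (zero_mem (𝒜 n)) (zero_mem (𝒜 n))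
  rw [secVal_congr i hg rfl (add_zero (0 : A)) _ (zero_mem _)] at this
  simpa using this

lemma secVal_pow {g : A} (hg : g ∈ 𝒜 1) {f : A} (hf : f ∈ 𝒜 1) (k : ℕ) :
    secVal i hg (f ^ k) (by simpa using SetLike.pow_mem_graded k hf) = secVal i hg f hf ^ k := by
  induction k with
  | zero =>
    rw [pow_zero (secVal i hg f hf), ← map_one (secMap i g)]
    refine congrArg (secMap i g) ?_
    apply val_injective
    simp [Away.val_mk, val_one, Localization.mk_one]
  | succ k ih =>
    rw [pow_succ (secVal i hg f hf), ← ih, ← secVal_mul]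
    exact secVal_congr i hg rfl (pow_succ f k) _ _

/-- `a` is sent to zero on every chart. -/
def VanishesOn (s : Finset A) (hs1 : ∀ f ∈ s, f ∈ 𝒜 1) (n : ℕ) (a : A) (ha : a ∈ 𝒜 n) : Prop :=
  ∀ (g : A) (hg : g ∈ s), secVal i (hs1 g hg) a ha = 0

variable (s : Finset A) (hs1 : ∀ f ∈ s, f ∈ 𝒜 1)

/-- The saturated ideal of a closed subscheme. -/
noncomputable def idealOf : HomogeneousIdeal 𝒜 where
  toSubmodule :=
    { carrier := {a | ∀ n, VanishesOn i s hs1 n _ (DirectSum.decompose 𝒜 a n).2}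
      zero_mem' := fun n g hg => by
        refine (secVal_congr i _ rfl (by simp) _ (zero_mem (𝒜 n))).trans (secVal_zero i _ n)
      add_mem' := fun {a b} ha hb n g hg => by
        refine (secVal_congr i _ rfl (by simp) _
          (add_mem (DirectSum.decompose 𝒜 a n).2 (DirectSum.decompose 𝒜 b n).2)).trans ?_
        rw [secVal_add i _ (DirectSum.decompose 𝒜 a n).2 (DirectSum.decompose 𝒜 b n).2, ha n g hg, hb n g hg,
          add_zero]
      smul_mem' := fun c a ha n g hg => by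
        classical
        have key : ∀ (T : Finset ℕ) (c : ℕ → A), (∀ j, c j ∈ 𝒜 j) →
            secVal i (hs1 g hg) _ (DirectSum.decompose 𝒜 ((∑ j ∈ T, c j) * a) n).2 = 0 := by
          intro T c hc
          induction T using Finset.induction_on with
          | empty => exact (secVal_congr i _ rfl (by simp) _ (zero_mem (𝒜 n))).trans (secVal_zero i _ n)
          | @insert j T hj ih =>
            refine (secVal_congr i _ rfl (b := (DirectSum.decompose 𝒜 (c j * a) n : A) +
                (DirectSum.decompose 𝒜 ((∑ x ∈ T, c x) * a) n : A)) (by rw [Finset.sum_insert hj, add_mul,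
              DirectSum.decompose_add, DirectSum.add_apply, Submodule.coe_add]) _
              (add_mem (DirectSum.decompose 𝒜 (c j * a) n).2 (DirectSum.decompose 𝒜 _ n).2)).trans ?_
            rw [secVal_add i _ (DirectSum.decompose 𝒜 (c j * a) n).2 (DirectSum.decompose 𝒜 _ n).2, ih, add_zero]
            by_cases hjn : j ≤ n
            · refine (secVal_congr i _ (Nat.add_sub_cancel' hjn).symm
                (DirectSum.coe_decompose_mul_of_left_mem_of_le 𝒜 (hc j) hjn) _
                (SetLike.mul_mem_graded (hc j) (DirectSum.decompose 𝒜 a (n - j)).2)).trans ?_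
              rw [secVal_mul i _ (hc j) (DirectSum.decompose 𝒜 a (n - j)).2, ha (n - j) g hg, mul_zero]
            · exact (secVal_congr i _ rfl
                (DirectSum.coe_decompose_mul_of_left_mem_of_not_le 𝒜 (hc j) hjn) _ (zero_mem (𝒜 n))).trans
                (secVal_zero i _ n)
        refine (secVal_congr i _ rfl ?_ _
          (DirectSum.decompose 𝒜 ((∑ j ∈ (DirectSum.decompose 𝒜 c).support,
            (DirectSum.decompose 𝒜 c j : A)) * a) n).2).trans (key _ _ fun j => (DirectSum.decompose 𝒜 c j).2)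
        rw [DirectSum.sum_support_decompose 𝒜 c, smul_eq_mul] }
  is_homogeneous' := fun m a ha n g hg => by
    by_cases h : m = n
    · subst h
      exact (secVal_congr i _ rfl (DirectSum.decompose_of_mem_same 𝒜 (DirectSum.decompose 𝒜 a m).2) _
        (DirectSum.decompose 𝒜 a m).2).trans (ha m g hg)
    · exact (secVal_congr i _ rfl (DirectSum.decompose_of_mem_ne 𝒜 (DirectSum.decompose 𝒜 a m).2 h) _
        (zero_mem (𝒜 n))).trans (secVal_zero i _ n)

lemma mem_idealOf_iff {n : ℕ} {a : A} (ha : a ∈ 𝒜 n) :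
    a ∈ (idealOf i s hs1).toIdeal ↔ VanishesOn i s hs1 n a ha := by
  constructor
  · exact fun h g hg =>
      (secVal_congr i _ rfl (DirectSum.decompose_of_mem_same 𝒜 ha).symm ha _).trans (h n g hg)
  · intro h m g hg
    by_cases hm : n = m
    · subst hm
      exact (secVal_congr i _ rfl (DirectSum.decompose_of_mem_same 𝒜 ha) _ ha).trans (h g hg)
    · exact (secVal_congr i _ rfl (DirectSum.decompose_of_mem_ne 𝒜 ha hm) _ (zero_mem (𝒜 m))).trans
        (secVal_zero i _ m)

/-- A function on `D₊(f)` vanishing on `Z` is, up to a power of `f`, in the saturated ideal. -/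
lemma exists_pow_mul_vanishes [QuasiCompact i] {f : A} (hf : f ∈ 𝒜 1) {n : ℕ} {a : A} (ha : a ∈ 𝒜 n)
    (hz : secVal i hf a ha = 0) {g : A} (hg : g ∈ 𝒜 1) :
    ∃ k, ∀ K, k ≤ K → secVal i hg (f ^ K * a)
      (SetLike.mul_mem_graded (SetLike.pow_mem_graded K hf) ha) = 0 := by
  have hmem : f * g ∈ 𝒜 (1 + 1) := SetLike.mul_mem_graded hf hg
  have hres : ∀ (p : A) (hp : p ∈ 𝒜 1) (q : A) (hq : q ∈ 𝒜 1) (hpq : f * g = p * q) (y : Away 𝒜 p),
      Z.presheaf.map (homOfLE ((Scheme.Hom.preimage_mono i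
        (Proj.basicOpen_mono 𝒜 p (f * g) ⟨q, hpq⟩)))).op (secMap i p y) =
      secMap i (f * g) (awayMap 𝒜 hq hpq y) := by
    intro p hp q hq hpq y
    have h2 := congr($(Proj.awayMap_awayToSection 𝒜 (f := p) hq hpq) ≫ i.app (Proj.basicOpen 𝒜 (f * g)))
    simp only [Category.assoc, Scheme.Hom.naturality] at h2
    exact (ConcreteCategory.congr_hom h2 y).symm
  let h := secVal i hg f hf
  have hbo : Z.basicOpen h ≤ i ⁻¹ᵁ Proj.basicOpen 𝒜 (f * g) := by
    show Z.basicOpen (i.app (Proj.basicOpen 𝒜 g) (Proj.awayToSection 𝒜 g (Away.mk 𝒜 hg 1 f (mem_smul_one hf)))) ≤ _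
    rw [← Scheme.Hom.preimage_basicOpen, Twist.basicOpen_awayToSection 𝒜 one_pos hg (mem_smul_one hf), mul_comm g f]
  have hH : (secVal i hg a ha) |_ (Z.basicOpen h) = 0 := by
    have key : Z.presheaf.map (homOfLE ((Scheme.Hom.preimage_mono i
        (Proj.basicOpen_mono 𝒜 g (f * g) ⟨f, mul_comm f g⟩)))).op (secVal i hg a ha) = 0 := by
      rw [secVal, hres g hg f hf (mul_comm f g)]
      have e : awayMap 𝒜 hf (mul_comm f g) (Away.mk 𝒜 hg n a (mem_smul_one ha)) =
          awayMap 𝒜 hg rfl (Away.mk 𝒜 hf n a (mem_smul_one ha)) *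
            awayMap 𝒜 hf (mul_comm f g) (Away.mk 𝒜 hg n (f ^ n)
              (mem_smul_one (by simpa using SetLike.pow_mem_graded n hf))) := by
        apply val_injective
        simp only [val_mul, Away.mk, val_awayMap_mk, Localization.mk_mul]
        rw [Localization.mk_eq_mk_iff, Localization.r_iff_exists]
        refine ⟨1, ?_⟩
        simp only [OneMemClass.coe_one, one_mul, Submonoid.coe_mul, SubmonoidClass.coe_pow]
        ring
      rw [e, map_mul, ← hres f hf g hg rfl]
      rw [show secMap i f (Away.mk 𝒜 hf n a (mem_smul_one ha)) = 0 from hz, map_zero, zero_mul]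
    have := congrArg (Z.presheaf.map (homOfLE hbo).op) key
    rw [map_zero, ← CommRingCat.comp_apply, ← Functor.map_comp] at this
    exact this
  obtain ⟨k, hk⟩ := exists_pow_mul_eq_zero_of_res_basicOpen_eq_zero_of_isCompact Z
    (i.isCompact_preimage (Proj.isAffineOpen_basicOpen 𝒜 g hg one_pos).isCompact) _ h hH
  refine ⟨k, fun K hK => ?_⟩
  obtain ⟨l, rfl⟩ := Nat.exists_eq_add_of_le hK
  refine (secVal_congr i hg (n := (k + l) + n) (by simp) rfl _ (SetLike.mul_mem_graded
    (by simpa using SetLike.pow_mem_graded (k + l) hf) ha)).trans ?_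
  rw [secVal_mul i hg (by simpa using SetLike.pow_mem_graded (k + l) hf) ha, secVal_pow i hg hf,
    pow_add, mul_assoc, mul_comm (h ^ l), ← mul_assoc, hk, zero_mul]

/-- The kernel criterion: `Z` is the `Proj` of the quotient by the saturated ideal. -/
theorem exists_iso [IsClosedImmersion i]
    (hs : (HomogeneousIdeal.irrelevant 𝒜).toIdeal ≤ Ideal.span (s : Set A))
    {B : Type u} [CommRing B] [Algebra R B] {ℬ : ℕ → Submodule R B} [GradedAlgebra ℬ]
    (φ : 𝒜 →+*ᵍ ℬ) (hφs : Function.Surjective φ)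
    (hker : ∀ (n : ℕ) (a : A) (ha : a ∈ 𝒜 n), φ a = 0 ↔ VanishesOn i s hs1 n a ha)
    (hφ : HomogeneousIdeal.irrelevant ℬ ≤ (HomogeneousIdeal.irrelevant 𝒜).map φ) :
    ∃ e : Z ≅ Proj ℬ, e.hom ≫ Proj.map φ hφ = i := by
  classical
  have : IsClosedImmersion (Proj.map φ hφ) := by
    refine Groth.Agent.EGA2.map_of_forall_away φ hφ @IsClosedImmersion fun d hd t ht => ?_
    refine IsClosedImmersion.spec_of_surjective _ (Groth.Agent.EGA2.away_map_surjective φ ?_ hd ht)
    intro n hn b hb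
    obtain ⟨a, rfl⟩ := hφs b
    refine ⟨(DirectSum.decompose 𝒜 a n : A), (DirectSum.decompose 𝒜 a n).2, ?_⟩
    rw [GradedRingHom.map_directSumDecompose, DirectSum.decompose_of_mem_same ℬ hb]
  have hcov : ⨆ f : s, Proj.basicOpen 𝒜 f.1 = ⊤ := Proj.iSup_basicOpen_eq_top 𝒜 (fun f : s => (f.1 : A)) (by
    refine hs.trans (Ideal.span_mono fun x hx => ?_)
    exact ⟨⟨x, hx⟩, rfl⟩)
  let U : s → (Proj 𝒜).affineOpens := fun f =>
    ⟨Proj.basicOpen 𝒜 f.1, Proj.isAffineOpen_basicOpen 𝒜 f.1 (hs1 f.1 f.2) one_pos⟩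
  have hkereq : (Proj.map φ hφ).ker = i.ker := by
    refine Scheme.IdealSheafData.ext_of_iSup_eq_top U hcov fun ⟨f, hfs⟩ => ?_
    rw [Scheme.Hom.ker_apply, Scheme.Hom.ker_apply]
    ext x
    have hf := hs1 f hfs
    obtain ⟨y, rfl⟩ := (ConcreteCategory.bijective_of_isIso
      (Proj.basicOpenIsoAway 𝒜 f hf one_pos).hom).2 x
    obtain ⟨n, a, ha, rfl⟩ := Away.mk_surjective 𝒜 hf y
    have ha' : a ∈ 𝒜 n := by simpa using ha
    rw [RingHom.mem_ker, RingHom.mem_ker]
    change (Proj.map φ hφ).app (Proj.basicOpen 𝒜 f) (Proj.awayToSection 𝒜 f (Away.mk 𝒜 hf n a ha)) = 0 ↔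
      secVal i hf a ha' = 0
    have happ := ConcreteCategory.congr_hom (Proj.awayToSection_comp_appLE φ hφ hf) (Away.mk 𝒜 hf n a ha)
    rw [Scheme.Hom.app_eq_appLE]
    erw [happ]
    refine (map_eq_zero_iff (Proj.awayToSection ℬ (φ f)).hom (ConcreteCategory.bijective_of_isIso
      (Proj.basicOpenIsoAway ℬ (φ f) (φ.2 hf) one_pos).hom).1).trans ?_
    show Away.map φ f (Away.mk 𝒜 hf n a ha) = 0 ↔ _
    rw [Away.map_mk, EGA2.away_mk_eq_zero_iff ℬ (φ.2 hf)]
    constructor
    · rintro ⟨k, hk⟩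
      replace hk : φ (f ^ k * a) = 0 := by rw [map_mul, map_pow]; exact hk
      have h0 := (hker _ _ (SetLike.mul_mem_graded (SetLike.pow_mem_graded k hf) ha')).1 hk f hfs
      rw [secVal_congr i _ (n := k + n) (by simp) rfl _ (SetLike.mul_mem_graded (by simpa using SetLike.pow_mem_graded k hf) ha')] at h0
      rw [secVal_mul i hf (by simpa using SetLike.pow_mem_graded k hf) ha', secVal_pow i hf hf] at h0
      have h1 : secVal i hf f hf = 1 := by
        rw [secVal, ← map_one (secMap i f)]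
        refine congrArg _ (val_injective _ ?_)
        rw [Away.val_mk, val_one]
        simp only [pow_one]
        exact Localization.mk_self (⟨f, 1, pow_one f⟩ : Submonoid.powers f)
      rwa [h1, one_pow, one_mul] at h0
    · intro hz
      choose k hk using fun g : s => exists_pow_mul_vanishes i hf ha' hz (hs1 g.1 g.2)
      refine ⟨Finset.univ.sup k, ?_⟩
      have h0 : φ (f ^ Finset.univ.sup k * a) = 0 :=
        (hker _ _ (SetLike.mul_mem_graded (SetLike.pow_mem_graded _ hf) ha')).2 fun g hg =>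
          hk ⟨g, hg⟩ _ (Finset.le_sup (Finset.mem_univ _))
      rw [map_mul, map_pow] at h0
      exact h0
  have := IsClosedImmersion.isIso_lift (Proj.map φ hφ) i hkereq
  exact ⟨asIso (IsClosedImmersion.lift (Proj.map φ hφ) i hkereq.le), IsClosedImmersion.lift_fac _ _ _⟩

end Groth.Agent.ProjClosed
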