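import Mathlib.RingTheory.GradedAlgebra.Homogeneous.Ideal
import Mathlib.RingTheory.GradedAlgebra.RingHom
import Mathlib.RingTheory.Ideal.Quotient.Operations
import Mathlib.RingTheory.GradedAlgebra.Homogeneous.Maps

/-!
The grading on the quotient of a graded algebra by a homogeneous ideal.
-/

universe u

open DirectSum

namespace Groth.Agent.ProjClosed

variable {R A : Type u} [CommRing R] [CommRing A] [Algebra R A]
  {𝒜 : ℕ → Submodule R A} [GradedAlgebra 𝒜] (I : HomogeneousIdeal 𝒜)

/-- The degree pieces of the quotient. -/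
def quotGrading (d : ℕ) : Submodule R (A ⧸ I.toIdeal) :=
  (𝒜 d).map (Ideal.Quotient.mkₐ R I.toIdeal).toLinearMap

instance : SetLike.GradedMonoid (quotGrading I) where
  one_mem := ⟨1, SetLike.GradedOne.one_mem, map_one (Ideal.Quotient.mkₐ R I.toIdeal)⟩
  mul_mem := by
    rintro i j _ _ ⟨a, ha, rfl⟩ ⟨b, hb, rfl⟩
    exact ⟨a * b, SetLike.mul_mem_graded ha hb, map_mul (Ideal.Quotient.mkₐ R I.toIdeal) a b⟩

/-- The map on a single degree piece. -/
def pieceMap (d : ℕ) : 𝒜 d →ₗ[R] ⨁ i, quotGrading I i :=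
  (DirectSum.lof R ℕ (fun i => quotGrading I i) d) ∘ₗ
    ((Ideal.Quotient.mkₐ R I.toIdeal).toLinearMap.submoduleMap (𝒜 d))

/-- Decomposition of the quotient, before passing to the quotient. -/
noncomputable def decomposeHom : A →ₐ[R] ⨁ i, quotGrading I i :=
  (DirectSum.toAlgebra R (fun i => 𝒜 i) (pieceMap I)
    (congrArg (DirectSum.of (fun i => quotGrading I i) 0)
      (Subtype.ext (map_one (Ideal.Quotient.mkₐ R I.toIdeal))))
    (fun {i j} ai aj => by
      simp only [pieceMap, LinearMap.comp_apply, DirectSum.lof_eq_of, DirectSum.of_mul_of]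
      congr 1)).comp
    (DirectSum.decomposeAlgEquiv 𝒜).toAlgHom

lemma decomposeHom_coe {d : ℕ} (a : 𝒜 d) :
    decomposeHom I (a : A) = DirectSum.of (fun i => quotGrading I i) d
      ⟨Ideal.Quotient.mk I.toIdeal a, _, a.2, rfl⟩ := by
  rw [decomposeHom, AlgHom.comp_apply]
  erw [DirectSum.decompose_coe]
  exact DirectSum.toModule_lof (φ := pieceMap I) R d a

lemma decomposeHom_eq_zero (a : A) (ha : a ∈ I.toIdeal) : decomposeHom I a = 0 := by
  classical
  rw [← DirectSum.sum_support_decompose 𝒜 a, map_sum]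
  refine Finset.sum_eq_zero fun i _ => ?_
  rw [decomposeHom_coe]
  have : Ideal.Quotient.mk I.toIdeal (DirectSum.decompose 𝒜 a i : A) = 0 :=
    Ideal.Quotient.eq_zero_iff_mem.mpr (I.isHomogeneous i ha)
  simp only [this]
  exact map_zero _

noncomputable instance quotGradedAlgebra : GradedAlgebra (quotGrading I) :=
  GradedAlgebra.ofAlgHom _ (Ideal.Quotient.liftₐ I.toIdeal (decomposeHom I) (decomposeHom_eq_zero I))
    (by
      refine Ideal.Quotient.algHom_ext R ?_
      ext a
      classical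
      conv_lhs => rw [← DirectSum.sum_support_decompose 𝒜 a]
      conv_rhs => rw [← DirectSum.sum_support_decompose 𝒜 a]
      simp only [map_sum]
      refine Finset.sum_congr rfl fun i _ => ?_
      simp only [AlgHom.comp_apply, Ideal.Quotient.mkₐ_eq_mk, Ideal.Quotient.liftₐ_apply,
        Ideal.Quotient.lift_mk, AlgHom.coe_toRingHom, decomposeHom_coe, DirectSum.coeAlgHom_of,
        AlgHom.id_apply])
    (fun i x => by
      obtain ⟨_, a, ha, rfl⟩ := x
      exact decomposeHom_coe I ⟨a, ha⟩)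

/-- The quotient map as a graded homomorphism. -/
def quotHom : 𝒜 →+*ᵍ quotGrading I where
  toRingHom := Ideal.Quotient.mk I.toIdeal
  map_mem {_} x hx := ⟨x, hx, rfl⟩

lemma quotHom_surjective : Function.Surjective (quotHom I) := Ideal.Quotient.mk_surjective

lemma quotHom_eq_zero_iff (a : A) : quotHom I a = 0 ↔ a ∈ I.toIdeal := Ideal.Quotient.eq_zero_iff_mem

lemma irrelevant_le_map :
    HomogeneousIdeal.irrelevant (quotGrading I) ≤ (HomogeneousIdeal.irrelevant 𝒜).map (quotHom I) := by
  refine (HomogeneousIdeal.irrelevant_le _).2 fun i hi x hx => ?_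
  obtain ⟨a, ha, rfl⟩ := hx
  exact Ideal.mem_map_of_mem _ (HomogeneousIdeal.mem_irrelevant_of_mem _ hi ha)

end Groth.Agent.ProjClosed
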